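import Groth.Agent.CondTLib.Points

/-!
# Transcendence degrees of images under universally open families
-/

set_option autoImplicit false
set_option linter.style.haveILetI false
set_option backward.isDefEq.respectTransparency false
set_option backward.defeqAttrib.useBackward true

open CategoryTheory CategoryTheory.Limits AlgebraicGeometry Topology TopologicalSpace TensorProduct

universe u

namespace Groth.Agent.DerivDimLib

open Groth.Agent.DimFormulaLib Groth.Agent.OpenDim Groth.Agent.CondTLib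

variable {X S P : Scheme.{u}} (f : X ⟶ S) [LocallyOfFiniteType f]

/-- Along a universally open family, an image point lifts to an image point of a generization of the base
without losing transcendence degree. -/
theorem exists_generization_trd_image (w : P ⟶ X) [UniversallyOpen (w ≫ f)] (ζ : P) {η : S} (hη : η ⤳ f (w ζ)) :
    ∃ ω : P, f (w ω) = η ∧ trd f (w ζ) ≤ trd f (w ω) := by
  obtain ⟨c⟩ := exists_chart f (w ζ)
  obtain ⟨(p₀ : PrimeSpectrum c.A), rfl⟩ : η ∈ Set.range c.i :=
    hη.mem_open c.i.isOpenEmbedding.isOpen_range ⟨c.p, c.hp⟩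
  have hp₀' : p₀.asIdeal ≤ c.q.asIdeal.comap (algebraMap c.A c.B) :=
    (PrimeSpectrum.le_iff_specializes p₀ c.p).2
      (c.i.isOpenEmbedding.isInducing.specializes_iff.1 (c.hp.symm ▸ hη))
  -- an affine neighbourhood of `ζ` mapping into the chart
  obtain ⟨C, j', hj', hζ, hsub⟩ := Scheme.exists_affine_mem_range_and_range_subset
    (show ζ ∈ w ⁻¹ᵁ c.j.opensRange from ⟨c.q, c.hq⟩)
  obtain ⟨Q, rfl⟩ := hζ
  have hr : Set.range (j' ≫ w) ⊆ Set.range c.j := by
    rintro _ ⟨z, rfl⟩
    exact hsub ⟨z, rfl⟩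
  let φ := IsOpenImmersion.lift c.j (j' ≫ w) hr
  have hφ : φ ≫ c.j = j' ≫ w := IsOpenImmersion.lift_fac _ _ _
  letI : Algebra c.B C := (Spec.preimage φ).hom.toAlgebra
  letI : Algebra c.A C := ((algebraMap c.B C).comp (algebraMap c.A c.B)).toAlgebra
  haveI : IsScalarTower c.A c.B C := .of_algebraMap_eq fun _ => rfl
  have hBC : Spec.map (CommRingCat.ofHom (algebraMap c.B C)) = φ := by
    rw [show CommRingCat.ofHom (algebraMap c.B C) = Spec.preimage φ from rfl, Spec.map_preimage]
  have hAC : Spec.map (CommRingCat.ofHom (algebraMap c.A C)) ≫ c.i = j' ≫ w ≫ f := by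
    rw [show CommRingCat.ofHom (algebraMap c.A C) =
        CommRingCat.ofHom (algebraMap c.A c.B) ≫ CommRingCat.ofHom (algebraMap c.B C) from rfl,
      Spec.map_comp, Category.assoc, ← c.w, hBC, reassoc_of% hφ]
  haveI h1 : UniversallyOpen (Spec.map (CommRingCat.ofHom (algebraMap c.A C))) := by
    refine MorphismProperty.of_postcomp (W := @UniversallyOpen) (W' := @IsOpenImmersion) _ c.i inferInstance ?_
    rw [hAC]
    infer_instance
  have hopen : ∀ (V : Type u) [CommRing V] [Algebra c.A V],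
      IsOpenMap (PrimeSpectrum.comap (algebraMap V (V ⊗[c.A] C))) := by
    intro V _ _
    haveI : UniversallyOpen (pullback.fst (Spec.map (CommRingCat.ofHom (algebraMap c.A V)))
        (Spec.map (CommRingCat.ofHom (algebraMap c.A C)))) := MorphismProperty.pullback_fst _ _ h1
    have h2 : UniversallyOpen (Spec.map (CommRingCat.ofHom (algebraMap V (V ⊗[c.A] C)))) := by
      rw [← pullbackSpecIso_inv_fst']
      infer_instance
    exact Scheme.Hom.isOpenMap (Spec.map (CommRingCat.ofHom (algebraMap V (V ⊗[c.A] C))))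
  have hQq : PrimeSpectrum.comap (algebraMap c.B C) Q = c.q := by
    refine c.j.isOpenEmbedding.injective ?_
    have := congrArg (fun m => m Q) hφ
    rw [← hBC] at this
    exact this.trans c.hq.symm
  have ht := resTrdegAt_eq_trd f (c.j c.q)
  rw [c.resTrdegAt_eq] at ht
  let p : Ideal c.A := (PrimeSpectrum.comap (algebraMap c.A c.B) c.q).asIdeal
  haveI : FaithfulSMul (c.A ⧸ p) (c.B ⧸ c.q.asIdeal) :=
    (faithfulSMul_iff_algebraMap_injective _ _).2 (Ideal.quotientMap_injective' le_rfl)
  obtain ⟨ι, y, hy⟩ := exists_isTranscendenceBasis' (c.A ⧸ p) (c.B ⧸ c.q.asIdeal)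
  have hcard : Cardinal.mk ι = (trd f (c.j c.q) : Cardinal.{u}) := hy.cardinalMk_eq_trdeg.trans ht
  obtain ⟨n, hn⟩ : ∃ n, n = trd f (c.j c.q) := ⟨_, rfl⟩
  obtain ⟨e⟩ : Nonempty (Fin n ≃ ι) := by
    have : Cardinal.mk (ULift.{u} (Fin n)) = Cardinal.mk ι := by rw [hcard, Cardinal.mk_uLift, Cardinal.mk_fin, hn]; simp
    exact (Cardinal.eq.1 this).map fun e => Equiv.ulift.symm.trans e
  choose b hb using fun i => Ideal.Quotient.mk_surjective (y (e i))
  have hind : IndepAt (A := c.A) c.q.asIdeal b := by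
    intro F hF m
    have h0 : MvPolynomial.map (Ideal.Quotient.mk p) F = 0 := by
      refine (hy.1.comp e e.injective).eq_zero_of_aeval_eq_zero _ ?_
      have e1 : ((MvPolynomial.aeval (y ∘ e) : MvPolynomial (Fin n) (c.A ⧸ p) →ₐ[c.A ⧸ p] c.B ⧸ c.q.asIdeal)
          : MvPolynomial (Fin n) (c.A ⧸ p) →+* c.B ⧸ c.q.asIdeal).comp (MvPolynomial.map (Ideal.Quotient.mk p)) =
          (Ideal.Quotient.mk c.q.asIdeal).comp (MvPolynomial.aeval b : MvPolynomial (Fin n) c.A →ₐ[c.A] c.B).toRingHom := by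
        refine MvPolynomial.ringHom_ext (fun a => ?_) fun i => ?_
        · simp only [RingHom.comp_apply, MvPolynomial.map_C, AlgHom.toRingHom_eq_coe, RingHom.coe_coe, MvPolynomial.aeval_C]
          rfl
        · simp only [RingHom.comp_apply, MvPolynomial.map_X, AlgHom.toRingHom_eq_coe, RingHom.coe_coe, MvPolynomial.aeval_X]
          exact (hb i).symm
      exact (RingHom.congr_fun e1 F).trans (Ideal.Quotient.eq_zero_iff_mem.2 hF)
    refine Ideal.Quotient.eq_zero_iff_mem.1 ((MvPolynomial.coeff_map (Ideal.Quotient.mk p) F m).symm.trans ?_)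
    rw [h0, MvPolynomial.coeff_zero]
  -- pull the functions back to the family
  let ψ : c.B →ₐ[c.A] C := IsScalarTower.toAlgHom c.A c.B C
  have hψF : ∀ F : MvPolynomial (Fin n) c.A,
      MvPolynomial.aeval (fun i => ψ (b i)) F = algebraMap c.B C (MvPolynomial.aeval b F) := fun F =>
    (MvPolynomial.comp_aeval_apply b ψ F).symm
  have hQ : Q.asIdeal.comap (algebraMap c.A C) = c.q.asIdeal.comap (algebraMap c.A c.B) := by
    rw [← hQq]; exact (Ideal.comap_comap _ _).symm
  have hindC : IndepAt (A := c.A) Q.asIdeal fun i => ψ (b i) := by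
    intro F hF m
    rw [hQ]
    refine hind F ?_ m
    rw [hψF] at hF
    rw [← hQq]
    exact hF
  obtain ⟨P₀, hP, -, hPp, hPind⟩ := exists_generization_indep hopen Q.asIdeal p₀.asIdeal (hQ ▸ hp₀') _ hindC
  let P₁ : PrimeSpectrum C := ⟨P₀, hP⟩
  let P' : PrimeSpectrum c.B := PrimeSpectrum.comap (algebraMap c.B C) P₁
  have hw : w (j' P₁) = c.j P' := by
    have := congrArg (fun m => m P₁) hφ
    rw [← hBC] at this
    exact this.symm
  have hP'p : P'.asIdeal.comap (algebraMap c.A c.B) = p₀.asIdeal := (Ideal.comap_comap _ _).trans hPp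
  refine ⟨j' P₁, ?_, ?_⟩
  · rw [hw, c.apply_j]
    exact congrArg c.i (PrimeSpectrum.ext hP'p)
  rw [hw]
  have hi : AlgebraicIndependent (c.A ⧸ (P'.asIdeal.comap (algebraMap c.A c.B)))
      (fun i => Ideal.Quotient.mk P'.asIdeal (b i)) := by
    rw [algebraicIndependent_iff]
    intro G hG
    obtain ⟨F, rfl⟩ := MvPolynomial.map_surjective (Ideal.Quotient.mk _) Ideal.Quotient.mk_surjective G
    ext m
    rw [MvPolynomial.coeff_map, MvPolynomial.coeff_zero, Ideal.Quotient.eq_zero_iff_mem]
    have hF : MvPolynomial.aeval b F ∈ P'.asIdeal := by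
      refine Ideal.Quotient.eq_zero_iff_mem.1 (Eq.trans ?_ hG)
      have e1 : (MvPolynomial.aeval (R := c.A ⧸ P'.asIdeal.comap (algebraMap c.A c.B))
          fun i => Ideal.Quotient.mk P'.asIdeal (b i)).toRingHom.comp (MvPolynomial.map (Ideal.Quotient.mk _)) =
          (Ideal.Quotient.mk P'.asIdeal).comp (MvPolynomial.aeval b : MvPolynomial (Fin n) c.A →ₐ[c.A] c.B).toRingHom := by
        refine MvPolynomial.ringHom_ext (fun a => ?_) fun i => ?_
        · simp only [RingHom.comp_apply, MvPolynomial.map_C, AlgHom.toRingHom_eq_coe, RingHom.coe_coe, MvPolynomial.aeval_C]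
          rfl
        · simp only [RingHom.comp_apply, MvPolynomial.map_X, AlgHom.toRingHom_eq_coe, RingHom.coe_coe, MvPolynomial.aeval_X]
      exact (RingHom.congr_fun e1 F).symm
    have h3 := hPind F (by rw [hψF]; exact hF) m
    rw [hPp, ← hP'p] at h3
    exact h3
  haveI : Nontrivial (c.A ⧸ P'.asIdeal.comap (algebraMap c.A c.B)) :=
    Ideal.Quotient.nontrivial_iff.2 (Ideal.IsPrime.comap _).ne_top
  have hle := hi.lift_cardinalMk_le_trdeg
  have ht2 : Algebra.trdeg (c.A ⧸ P'.asIdeal.comap (algebraMap c.A c.B)) (c.B ⧸ P'.asIdeal) = trd f (c.j P') :=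
    (c.resTrdegAt_eq P').symm.trans (resTrdegAt_eq_trd f (c.j P'))
  rw [ht2, Cardinal.mk_fin, Cardinal.lift_natCast, Cardinal.lift_natCast, hn] at hle
  rw [c.hq] at hle
  exact_mod_cast hle

end Groth.Agent.DerivDimLib
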