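import Groth.Agent.DerivDimLib.Field
import Groth.Agent.DerivDimLib.Trd
import Groth.Agent.GenSubLib.BoundedK
import Groth.Agent.GenFreeLocus.DimLT

/-!
# The locus where the derived group of the geometric fibre has bounded dimension
-/

set_option autoImplicit false
set_option backward.isDefEq.respectTransparency false
set_option backward.isDefEq.respectTransparency.types false
set_option linter.style.haveILetI false
set_option linter.unusedSectionVars false

universe u

open CategoryTheory CategoryTheory.Limits MonoidalCategory CartesianMonoidalCategory MonObj AlgebraicGeometry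
open Groth.Agent.GenSubLib Groth.Agent.DimFormulaLib

noncomputable section

namespace Groth.Agent.DerivDimLib

variable {S : Scheme.{u}}

/-- Words commute with base change. -/
theorem exists_word_bc {G X : Over S} [GrpObj G] {S' : Scheme.{u}} (σ : S' ⟶ S) (f : X ⟶ G)
    {Y : Over S'} (e₀ : Y ≅ Red.bc σ X) (f' : Y ⟶ Red.bc σ G) (h : e₀.hom ≫ (Over.pullback σ).map f = f') :
    ∀ l : List (PUnit.{1} × Bool),
      ∃ e : src (fun _ : PUnit.{1} => Y) l ≅ Red.bc σ (src (fun _ : PUnit.{1} => X) l),
      e.hom ≫ (Over.pullback σ).map (word (fun _ : PUnit.{1} => f) l) = word (fun _ : PUnit.{1} => f') l := by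
  intro l
  induction l with
  | nil =>
    refine ⟨Functor.Monoidal.εIso (Over.pullback σ), ?_⟩
    rfl
  | cons a l ih =>
    obtain ⟨e, he⟩ := ih
    refine ⟨MonoidalCategory.tensorIso e₀ e ≪≫ Functor.Monoidal.μIso (Over.pullback σ) X (src (fun _ : PUnit.{1} => X) l), ?_⟩
    rw [word_cons, word_cons, Functor.map_mul, MonObj.comp_mul, Functor.map_comp, Functor.map_comp]
    simp only [Iso.trans_hom, MonoidalCategory.tensorIso_hom, Functor.Monoidal.μIso_hom, Category.assoc,
      Functor.Monoidal.μ_fst_assoc, Functor.Monoidal.μ_snd_assoc,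
      CartesianMonoidalCategory.tensorHom_fst_assoc, CartesianMonoidalCategory.tensorHom_snd_assoc, he]
    congr 2
    unfold letter
    split
    · exact h
    · rw [Functor.map_inv', GrpObj.comp_inv, h]

/-- The commutator morphism over any base. -/
abbrev cm (G : Over S) [GrpObj G] : G ⊗ G ⟶ G :=
  fst G G * snd G G * (fst G G)⁻¹ * (snd G G)⁻¹

/-- Where all commutator words have values of transcendence degree at most `n`. -/
def locus (G : Over S) [GrpObj G] (n : ℕ) : Set S :=
  {s | ∀ (l : List (PUnit.{1} × Bool)) (p : (src (fun _ : PUnit.{1} => G ⊗ G) l).left),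
    (src (fun _ : PUnit.{1} => G ⊗ G) l).hom p = s →
      resTrdegAt G.hom ((word (fun _ : PUnit.{1} => cm G) l).left p) ≤ (n : Cardinal.{u})}

variable (G : Over S) [GrpObj G]

theorem smooth_src [Smooth G.hom] :
    ∀ l : List (PUnit.{1} × Bool), Smooth (src (fun _ : PUnit.{1} => G ⊗ G) l).hom := by
  intro l
  induction l with
  | nil => exact inferInstanceAs (Smooth (𝟙 S))
  | cons a l ih =>
    haveI := ih
    haveI : Smooth (G ⊗ G).hom := inferInstanceAs (Smooth (pullback.fst G.hom G.hom ≫ G.hom))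
    exact inferInstanceAs (Smooth (pullback.fst (G ⊗ G).hom (src (fun _ : PUnit.{1} => G ⊗ G) l).hom ≫ (G ⊗ G).hom))

theorem stableUnderSpecialization_locus [Smooth G.hom] (n : ℕ) : StableUnderSpecialization (locus G n) := by
  intro s s' hss hs l p hp
  haveI := smooth_src G l
  haveI : UniversallyOpen ((word (fun _ : PUnit.{1} => cm G) l).left ≫ G.hom) := by
    rw [Over.w]; infer_instance
  have hb : ∀ q, G.hom ((word (fun _ : PUnit.{1} => cm G) l).left q) = (src (fun _ : PUnit.{1} => G ⊗ G) l).hom q := fun q => by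
    rw [← Scheme.Hom.comp_apply, Over.w]
  obtain ⟨ω, hω, hle⟩ := exists_generization_trd_image G.hom (word (fun _ : PUnit.{1} => cm G) l).left p
    (show s ⤳ _ by rw [hb, hp]; exact hss)
  have h := hs l ω ((hb ω).symm.trans hω)
  rw [OpenDim.resTrdegAt_eq_trd] at h ⊢
  exact le_trans (by exact_mod_cast hle) h

variable {Ω : Type u} [Field Ω] [IsAlgClosed Ω] (z : Spec (CommRingCat.of Ω) ⟶ S) (s : S)

theorem mem_locus_iff [Smooth G.hom] [QuasiCompact G.hom] (hz : ∀ p, z p = s) (n : ℕ) :
    (∃ (N : Over (Spec (CommRingCat.of Ω))) (_ : GrpObj N) (i : N ⟶ Red.bc z G), IsMonHom i ∧ IsClosedImmersion i.left ∧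
      AlgGrp.IsNormalHom i ∧
      (∀ (T : Over (Spec (CommRingCat.of Ω))) (g h : T ⟶ Red.bc z G), ∃ m : T ⟶ N, g * h * g⁻¹ * h⁻¹ = m ≫ i) ∧
      topologicalKrullDim ↥N.left ≤ (n : WithBot ℕ∞)) ↔ s ∈ locus G n := by
  haveI : Smooth (Red.bc z G).hom := MorphismProperty.pullback_snd _ _ ‹Smooth G.hom›
  haveI : QuasiCompact (Red.bc z G).hom := MorphismProperty.pullback_snd _ _ ‹QuasiCompact G.hom›
  have hsq : IsPullback (pullback.fst G.hom z) (Red.bc z G).hom G.hom z := IsPullback.of_hasPullback G.hom z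
  have he₀ : (Functor.Monoidal.μIso (Over.pullback z) G G).hom ≫ (Over.pullback z).map (cm G) =
      commMap (𝟙 (Red.bc z G)) (𝟙 (Red.bc z G)) := by
    simp [cm, commMap, Functor.map_mul, MonObj.comp_mul, GrpObj.comp_inv, Functor.map_inv', Functor.Monoidal.μ_fst,
      Functor.Monoidal.μ_snd]
  constructor
  · rintro ⟨N, hN, i, hi, hci, -, hc, hdim⟩ l p hp
    letI := hN
    haveI := hi
    haveI := hci
    obtain ⟨e, he⟩ := exists_word_bc z (cm G) (Functor.Monoidal.μIso (Over.pullback z) G G) _ he₀ l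
    let w := word (fun _ : PUnit.{1} => cm G) l
    have hy : G.hom (w.left p) = s := by rw [← Scheme.Hom.comp_apply, Over.w]; exact hp
    obtain ⟨x', hx'⟩ : w.left p ∈ Set.range (pullback.fst G.hom z) := by
      rw [Scheme.Pullback.range_fst]
      exact ⟨IsLocalRing.closedPoint Ω, (hz _).trans hy.symm⟩
    obtain ⟨x, hx, -, hxt⟩ := (GenFreeLocus.trdeg_baseChange hsq x').2
    rw [hx'] at hx hxt
    obtain ⟨v, hv, -⟩ := Scheme.exists_preimage_of_isPullback (GenSubLib.isPullback_map z w) x p hx
    have hvx : (word (one₁ (commMap (𝟙 (Red.bc z G)) (𝟙 (Red.bc z G)))) l).left (e.inv.left v) = x := by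
      show (word (fun _ : PUnit.{1} => commMap (𝟙 (Red.bc z G)) (𝟙 (Red.bc z G))) l).left _ = x
      rw [← he, Over.comp_left, Scheme.Hom.comp_apply]
      refine Eq.trans ?_ hv
      congr 1
      rw [← Scheme.Hom.comp_apply, ← Over.comp_left, e.inv_hom_id]
      rfl
    have h := words_le_of_normal n N i hc hdim l (e.inv.left v)
    rw [hvx] at h
    exact le_of_eq_of_le hxt.symm h
  · intro hs
    refine exists_normal_small n fun l p => ?_
    obtain ⟨e, he⟩ := exists_word_bc z (cm G) (Functor.Monoidal.μIso (Over.pullback z) G G) _ he₀ l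
    let w := word (fun _ : PUnit.{1} => cm G) l
    let x := (word (one₁ (commMap (𝟙 (Red.bc z G)) (𝟙 (Red.bc z G)))) l).left p
    show resTrdegAt (Red.bc z G).hom x ≤ _
    have hx : pullback.fst G.hom z x = w.left (pullback.fst _ z (e.hom.left p)) := by
      show pullback.fst G.hom z ((word (fun _ : PUnit.{1} => commMap (𝟙 (Red.bc z G)) (𝟙 (Red.bc z G))) l).left p) = _
      rw [← he, Over.comp_left, Scheme.Hom.comp_apply]
      exact congrArg (fun φ => φ (e.hom.left p)) (GenSubLib.isPullback_map z w).w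
    have hq : (src (fun _ : PUnit.{1} => G ⊗ G) l).hom (pullback.fst _ z (e.hom.left p)) = s := by
      rw [← Scheme.Hom.comp_apply, pullback.condition, Scheme.Hom.comp_apply]
      exact hz _
    have h := hs l _ hq
    rw [← hx] at h
    obtain ⟨t, ht⟩ : ∃ t : ℕ, resTrdegAt G.hom (pullback.fst G.hom z x) = t := ⟨_, OpenDim.resTrdegAt_eq_trd G.hom _⟩
    obtain ⟨t', ht'⟩ : ∃ t : ℕ, resTrdegAt (Red.bc z G).hom x = t := ⟨_, OpenDim.resTrdegAt_eq_trd (Red.bc z G).hom _⟩
    rw [ht] at h
    rw [ht']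
    have hlt := (GenFreeLocus.trdeg_baseChange hsq x).1 (n + 1) (by
      show resTrdegAt G.hom (pullback.fst G.hom z x) < _
      rw [ht]
      exact_mod_cast Nat.lt_succ_of_le (show t ≤ n by exact_mod_cast h))
    change resTrdegAt (Red.bc z G).hom x < _ at hlt
    rw [ht'] at hlt
    exact_mod_cast Nat.le_of_lt_succ (show t' < n + 1 by exact_mod_cast hlt)

theorem locus_eq [Smooth G.hom] [QuasiCompact G.hom] (n : ℕ) :
    {s : ↥S | ∃ (N : Over (Spec (CommRingCat.of (AlgebraicClosure (S.residueField s))))) (_ : GrpObj N)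
      (i : N ⟶ Red.geomFibre s G), IsMonHom i ∧ IsClosedImmersion i.left ∧ AlgGrp.IsNormalHom i ∧
      (∀ (T : Over (Spec (CommRingCat.of (AlgebraicClosure (S.residueField s))))) (g h : T ⟶ Red.geomFibre s G),
        ∃ m : T ⟶ N, g * h * g⁻¹ * h⁻¹ = m ≫ i) ∧
      topologicalKrullDim ↥N.left ≤ (n : WithBot ℕ∞)} = locus G n :=
  Set.ext fun s => mem_locus_iff G (Red.geomPt s) s (fun p => by
    rw [Scheme.Hom.comp_apply]
    exact Scheme.fromSpecResidueField_apply s _) n

end Groth.Agent.DerivDimLib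

end
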