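import Groth.Agent.GenSubLib.CommutatorPts
import Groth.Agent.SolvLocusLib.Field
import Groth.Agent.FlatDim.Trdeg
import Groth.Agent.DimFormulaLib.Field
import Groth.Agent.DimLiftLib.Basic

/-!
# The dimension of the derived group over an algebraically closed field, through word maps
-/

set_option autoImplicit false
set_option backward.isDefEq.respectTransparency false
set_option backward.isDefEq.respectTransparency.types false
set_option linter.style.haveILetI false
set_option linter.unusedSectionVars false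

universe u v

open CategoryTheory CategoryTheory.Limits MonoidalCategory CartesianMonoidalCategory MonObj AlgebraicGeometry
open Groth.Agent.GenSubLib Groth.Agent.DimFormulaLib
open scoped commutatorElement

noncomputable section

namespace Groth.Agent.DerivDimLib

section Words

variable {S : Scheme.{u}} {G : Over S} [GrpObj G]

/-- Words in morphisms factoring through one morphism are words in that morphism. -/
theorem exists_src_map {J : Type v} {X : J → Over S} {Y : Over S} (f : Y ⟶ G) (g : ∀ j, X j ⟶ G)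
    (r : ∀ j, X j ⟶ Y) (h : ∀ j, r j ≫ f = g j) : ∀ l : List (J × Bool),
    ∃ (l' : List (PUnit.{1} × Bool)) (s : src X l ⟶ src (fun _ : PUnit.{1} => Y) l'),
      s ≫ word (X := fun _ : PUnit.{1} => Y) (fun _ : PUnit.{1} => f) l' = word g l
  | [] => ⟨[], 𝟙 _, Category.id_comp _⟩
  | a :: l => by
    obtain ⟨l', s, hs⟩ := exists_src_map f g r h l
    refine ⟨(PUnit.unit, a.2) :: l', lift (fst _ _ ≫ r a.1) (snd _ _ ≫ s), ?_⟩
    refine (comp_word_cons (X := fun _ : PUnit.{1} => Y) (fun _ : PUnit.{1} => f) (PUnit.unit, a.2) l' _ _).trans ?_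
    rw [word_cons, Category.assoc, Category.assoc, hs]
    congr 2
    unfold letter
    dsimp only
    split
    · exact h _
    · rw [GrpObj.comp_inv]
      exact congrArg _ (h _)

end Words

variable {k : Type u} [Field k] [IsAlgClosed k] {G : Over (Spec (CommRingCat.of k))} [GrpObj G]

/-- Transcendence degrees are bounded by the dimension of a closed subscheme containing the point. -/
theorem resTrdegAt_le_of_dim {N : Over (Spec (CommRingCat.of k))} (i : N ⟶ G) [IsClosedImmersion i.left]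
    [LocallyOfFiniteType G.hom] {n : ℕ} (hN : topologicalKrullDim ↥N.left ≤ (n : WithBot ℕ∞)) (v : N.left) :
    resTrdegAt G.hom (i.left v) ≤ (n : Cardinal.{u}) := by
  haveI : LocallyOfFiniteType N.hom := by rw [← Over.w i]; infer_instance
  obtain ⟨-, t, -, ht, -, hh⟩ := field_dims N.hom v
  have h1 : resTrdegAt N.hom v = resTrdegAt G.hom (i.left v) := by
    rw [← FlatDim.resTrdegAt_congr (Over.w i) v, FlatDim.resTrdegAt_comp, FlatDim.resTrdegAt_preimmersion i.left]
    simp
  have h2 : (t : WithBot ℕ∞) ≤ n := by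
    refine le_trans (le_of_eq ?_) ((Order.height_le_krullDim v).trans
      ((DimLiftLib.topologicalKrullDim_eq ↥N.left).symm.trans_le hN))
    rw [hh]; rfl
  rw [← h1, ht]
  exact_mod_cast h2

/-- Left translations preserve transcendence degrees. -/
theorem resTrdegAt_leftT [LocallyOfFiniteType G.hom] (c : 𝟙_ (Over (Spec (CommRingCat.of k))) ⟶ G) (v : G.left) :
    resTrdegAt G.hom ((leftT c).left v) = resTrdegAt G.hom v := by
  have h : ∀ b : 𝟙_ (Over (Spec (CommRingCat.of k))) ⟶ G, leftT b ≫ leftT b⁻¹ = 𝟙 G := fun b => by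
    rw [← Category.id_comp (leftT b), comp_leftT, comp_leftT, GrpObj.comp_inv, inv_mul_cancel_left]
  haveI : IsIso (leftT c) := ⟨leftT c⁻¹, h c, by have h2 := h c⁻¹; rwa [inv_inv] at h2⟩
  haveI : IsIso (leftT c).left := inferInstanceAs (IsIso ((Over.forget _).map (leftT c)))
  conv_rhs => rw [← FlatDim.resTrdegAt_congr (Over.w (leftT c)) v, FlatDim.resTrdegAt_comp,
    FlatDim.resTrdegAt_preimmersion (leftT c).left]
  simp

variable [Smooth G.hom] [QuasiCompact G.hom]

/-- Words of bounded transcendence degree bound the dimension of the derived group. -/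
theorem exists_normal_small (n : ℕ)
    (hB : ∀ (l : List (PUnit.{1} × Bool)) (p : (src (fun _ : PUnit.{1} => G ⊗ G) l).left),
      resTrdegAt G.hom ((word (one₁ (commMap (𝟙 G) (𝟙 G))) l).left p) ≤ (n : Cardinal.{u})) :
    ∃ (N : Over (Spec (CommRingCat.of k))) (_ : GrpObj N) (i : N ⟶ G), IsMonHom i ∧ IsClosedImmersion i.left ∧
      AlgGrp.IsNormalHom i ∧
      (∀ (T : Over (Spec (CommRingCat.of k))) (g h : T ⟶ G), ∃ m : T ⟶ N, g * h * g⁻¹ * h⁻¹ = m ≫ i) ∧
      topologicalKrullDim ↥N.left ≤ (n : WithBot ℕ∞) := by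
  classical
  haveI : GeometricallyReduced G.hom := AVLib.geometricallyReduced_of_smooth G.hom
  haveI := geometricallyReduced_tensor G G
  haveI : IsClosedImmersion (𝟙 G : G ⟶ G).left := inferInstanceAs (IsClosedImmersion (𝟙 G.left))
  let f := commMap (𝟙 G) (𝟙 G)
  obtain ⟨D, hD, i, hi, hci, -, -, hrange, hfac, -, hmin⟩ :=
    exists_generated (X := fun _ : PUnit.{1} => G ⊗ G) (fun _ : PUnit.{1} => f)
  letI := hD
  haveI := hi
  haveI := hci
  haveI : Mono i := Over.mono_of_mono_left i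
  have hidn : AlgGrp.IsNormalHom (𝟙 G) := fun T g x => ⟨g * (x ≫ 𝟙 G) * g⁻¹, (Category.comp_id _).symm⟩
  have hnorm : AlgGrp.IsNormalHom i := isNormalHom_commutator (𝟙 G) (𝟙 G) hidn hidn f rfl D i (hfac PUnit.unit)
    fun Γ' h' i' h1 h2 h3 => hmin Γ' h' i' h1 h2 fun _ => h3
  obtain ⟨q, hq⟩ := hfac PUnit.unit
  refine ⟨D, hD, i, hi, hci, hnorm, fun T g h => ⟨lift g h ≫ q, ?_⟩, ?_⟩
  · rw [Category.assoc, hq]
    simp [f, commMap, MonObj.comp_mul, GrpObj.comp_inv]
  -- words in commutators with the component of the unit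
  let G₀ := GrpSchLib.idObj G
  haveI hG0r : IsReduced G₀.left := DVRCrit.isReduced_vanishingIdeal _
  haveI hG0f : LocallyOfFiniteType G₀.hom := by rw [← Over.w (GrpSchLib.idIncl G)]; infer_instance
  haveI hG0g : GeometricallyReduced G₀.hom := AVLib.geometricallyReduced_of_perfect G₀.hom
  haveI hG0i : IrreducibleSpace G₀.left := GrpSchLib.irreducibleSpace_idObj
  haveI hG0c : QuasiCompact G₀.hom := (quasiCompact_iff_compactSpace _).2 GrpSchLib.compactSpace_idObj
  obtain ⟨eG, heG⟩ := exists_pt_lift (GrpSchLib.idIncl G) (1 : _ ⟶ G) (by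
    rw [GrpSchLib.range_idIncl]; exact (idPts G).one_mem)
  let J := 𝟙_ (Over (Spec (CommRingCat.of k))) ⟶ G
  let r : J → (G₀ ⟶ G ⊗ G) := fun t => lift (GrpSchLib.idIncl G) (toUnit G₀ ≫ t)
  let g : J → (G₀ ⟶ G) := fun t => r t ≫ f
  haveI : ∀ _ : J, IrreducibleSpace G₀.left := fun _ => hG0i
  haveI : ∀ _ : J, GeometricallyReduced G₀.hom := fun _ => hG0g
  haveI : ∀ _ : J, LocallyOfFiniteType G₀.hom := fun _ => hG0f
  haveI : ∀ _ : J, QuasiCompact G₀.hom := fun _ => hG0c
  haveI hG0cc : ConnectedSpace G₀.left := inferInstance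
  haveI hGc : GeometricallyConnected G₀.hom := geometricallyConnected_of_rational eG
  have hg : ∀ (t : J) (x : 𝟙_ (Over (Spec (CommRingCat.of k))) ⟶ G₀), x ≫ g t = ⁅x ≫ GrpSchLib.idIncl G, t⁆ := fun t x => by
    show x ≫ lift (GrpSchLib.idIncl G) (toUnit G₀ ≫ t) ≫ commMap (𝟙 G) (𝟙 G) = _
    rw [← Category.assoc, comp_lift, ← Category.assoc x (toUnit G₀), toUnit_unique (x ≫ toUnit G₀) (𝟙 _),
      Category.id_comp, comp_commMap, lift_fst, lift_snd, Category.comp_id, Category.comp_id]
  -- the closure of these words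
  have hA : ∀ x ∈ closure (wordSet g), resTrdegAt G.hom x ≤ (n : Cardinal.{u}) := by
    have hy : ∀ t : J, eG ≫ g t = η[G] := fun t => by
      rw [hg, heG, commutatorElement_one_left, Hom.one_def, toUnit_unit, Category.id_comp]
    obtain ⟨Γ, hΓ, j, hj, hcj, -, -, hr, hfac', ⟨q', hq', hd⟩, -⟩ := exists_generated g
    letI := hΓ
    haveI := hj
    haveI := hcj
    haveI : Mono j := Over.mono_of_mono_left j
    haveI : LocallyOfFiniteType Γ.hom := by rw [← Over.w j]; infer_instance
    haveI : ConnectedSpace Γ.left := by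
      have h := (isConnected_wordSet g (fun _ => eG) hy).closure
      rw [← hr, ← Set.image_univ] at h
      rw [connectedSpace_iff_univ]
      exact ⟨⟨η[Γ].left base₀, trivial⟩, j.left.isClosedEmbedding.isInducing.isPreconnected_image.1 h.isPreconnected⟩
    haveI := GrpSchLib.irreducibleSpace_of_connectedSpace (G := Γ)
    choose g' hg' using hfac'
    have hy1 : ∀ t, eG ≫ g' t = 1 := fun t => by
      rw [← cancel_mono j, Category.assoc, hg', hy, MonObj.one_comp, Hom.one_def, toUnit_unit, Category.id_comp]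
    have hd' : Dense (wordSet g') := by
      refine hd.mono ?_
      refine Set.iUnion_subset fun l => ?_
      rw [show q' l = word g' l by rw [← cancel_mono j, hq', word_comp j g' g hg']]
      exact Set.subset_iUnion (fun l => Set.range (word g' l).left) l
    obtain ⟨L, hL⟩ := exists_surjective_word g' (fun _ => eG) hy1 hd'
    intro x hx
    rw [← hr] at hx
    obtain ⟨v, rfl⟩ := hx
    obtain ⟨p, rfl⟩ := hL v
    obtain ⟨l', s, hs⟩ := exists_src_map f g r (fun t => rfl) L
    have h1 : j.left ((word g' L).left p) = (word (one₁ f) l').left (s.left p) := by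
      rw [← Scheme.Hom.comp_apply, ← Over.comp_left, word_comp j g' g hg' L, ← hs]
      rfl
    rw [h1]
    exact hB l' _
  -- finitely many translates
  haveI := SolvLocusLib.idPts_normal (G := G)
  let N : Subgroup J := ⁅idPts G, (⊤ : Subgroup J)⁆
  haveI : N.Normal := Subgroup.commutator_normal _ _
  have hgN : N ≤ Subgroup.closure (⋃ t, Set.range (fun w : 𝟙_ (Over (Spec (CommRingCat.of k))) ⟶ G₀ => w ≫ g t)) := by
    refine Subgroup.commutator_le.2 ?_
    intro x hx t _
    obtain ⟨x', hx'⟩ := exists_pt_lift (GrpSchLib.idIncl G) x (by rw [GrpSchLib.range_idIncl]; exact hx)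
    exact Subgroup.subset_closure (Set.mem_iUnion.2 ⟨t, x', (hg t x').trans (by rw [hx'])⟩)
  let π := QuotientGroup.mk' N
  obtain ⟨F₀, hF₀, hF₀'⟩ := exists_reps (A := G)
  have hcen : ∀ e ∈ idPts G, ∀ y : J, π e * π y = π y * π e := fun e he y => by
    rw [← commutatorElement_eq_one_iff_mul_comm, ← map_commutatorElement]
    exact (QuotientGroup.eq_one_iff _).2 (Subgroup.commutator_mem_commutator he (Subgroup.mem_top y))
  have hS : {q : J ⧸ N | ∃ x ∈ (⊤ : Subgroup (J ⧸ N)), ∃ t ∈ (⊤ : Subgroup (J ⧸ N)), ⁅x, t⁆ = q}.Finite := by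
    refine (Set.Finite.image2 (fun a b => π ⁅a, b⁆) hF₀ hF₀).subset ?_
    rintro _ ⟨x, -, t, -, rfl⟩
    obtain ⟨x, rfl⟩ := QuotientGroup.mk'_surjective N x
    obtain ⟨t, rfl⟩ := QuotientGroup.mk'_surjective N t
    obtain ⟨a, ha, hx⟩ := hF₀' x
    obtain ⟨b, hb, ht⟩ := hF₀' t
    refine ⟨a, ha, b, hb, ?_⟩
    have ex : π x = π a * π (a⁻¹ * x) := by rw [← map_mul, mul_inv_cancel_left]
    have et : π t = π b * π (b⁻¹ * t) := by rw [← map_mul, mul_inv_cancel_left]
    have c1 : ∀ y, π (a⁻¹ * x) * y = y * π (a⁻¹ * x) := fun y => by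
      obtain ⟨y, rfl⟩ := QuotientGroup.mk'_surjective N y
      exact hcen _ hx y
    have c2 : ∀ y, π (b⁻¹ * t) * y = y * π (b⁻¹ * t) := fun y => by
      obtain ⟨y, rfl⟩ := QuotientGroup.mk'_surjective N y
      exact hcen _ ht y
    show π ⁅a, b⁆ = ⁅π x, π t⁆
    rw [map_commutatorElement, ex, et]
    symm
    rw [commutatorElement_def, commutatorElement_def, mul_inv_rev, mul_inv_rev]
    calc π a * π (a⁻¹ * x) * (π b * π (b⁻¹ * t)) * ((π (a⁻¹ * x))⁻¹ * (π a)⁻¹) * ((π (b⁻¹ * t))⁻¹ * (π b)⁻¹)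
        = π a * (π b * π (b⁻¹ * t)) * (π a)⁻¹ * ((π (b⁻¹ * t))⁻¹ * (π b)⁻¹) := by
          rw [_root_.mul_assoc (π a) (π (a⁻¹ * x)), c1]; group
      _ = π a * π b * (π a)⁻¹ * (π b)⁻¹ := by
          rw [← _root_.mul_assoc (π a) (π b), _root_.mul_assoc (π a * π b) (π (b⁻¹ * t)), c2]; group
  have hfin := finite_commutator_of_finite (⊤ : Subgroup (J ⧸ N)) ⊤ hS
  let out : J ⧸ N → J := fun q => q.out
  let F := out '' ((⁅(⊤ : Subgroup (J ⧸ N)), (⊤ : Subgroup (J ⧸ N))⁆ : Subgroup (J ⧸ N)) : Set (J ⧸ N))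
  let U : Set G.left := ⋃ c ∈ F, (fun w => (leftT c).left w) '' closure (wordSet g)
  have hU : IsClosed U := (hfin.image out).isClosed_biUnion fun c _ => isClosedMap_leftT c _ isClosed_closure
  have hWU : wordSet (fun _ : PUnit.{1} => f) ⊆ U := by
    refine wordSet_comm_subset (𝟙 G) (𝟙 G) hU fun d hd => ?_
    have hq2 : π d ∈ ⁅(⊤ : Subgroup (J ⧸ N)), (⊤ : Subgroup (J ⧸ N))⁆ := by
      have h1 := Subgroup.mem_map_of_mem π hd
      rw [Subgroup.map_commutator] at h1
      exact Subgroup.commutator_mono le_top le_top h1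
    refine Set.mem_biUnion ⟨π d, hq2, rfl⟩ ?_
    have hn : (out (π d))⁻¹ * d ∈ N := QuotientGroup.eq.1 (QuotientGroup.out_eq' (π d))
    refine ⟨((out (π d))⁻¹ * d).left base₀, subset_closure (mem_wordSet_of_mem_closure g (hgN hn)), ?_⟩
    show (leftT (out (π d))).left _ = _
    rw [← Scheme.Hom.comp_apply, ← Over.comp_left, comp_leftT, toUnit_unit, Category.id_comp, mul_inv_cancel_left]
  haveI : LocallyOfFiniteType D.hom := by rw [← Over.w i]; infer_instance
  refine (DimLiftLib.topologicalKrullDim_eq ↥D.left).trans_le ?_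
  rw [Order.krullDim_eq_iSup_height]
  refine iSup_le fun v => ?_
  have hvU : i.left v ∈ U := closure_minimal hWU hU (hrange ▸ ⟨v, rfl⟩)
  simp only [U, Set.mem_iUnion] at hvU
  obtain ⟨c, -, w, hw, hwv⟩ := hvU
  obtain ⟨-, t, -, ht, -, hh⟩ := field_dims D.hom v
  have h1 : resTrdegAt D.hom v = resTrdegAt G.hom (i.left v) := by
    rw [← FlatDim.resTrdegAt_congr (Over.w i) v, FlatDim.resTrdegAt_comp, FlatDim.resTrdegAt_preimmersion i.left]
    simp
  have h2 : (t : Cardinal.{u}) ≤ n := by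
    rw [← ht, h1, ← hwv, resTrdegAt_leftT]
    exact hA w hw
  rw [hh]
  exact_mod_cast (show t ≤ n by exact_mod_cast h2)

/-- A closed subgroup containing the commutators bounds the transcendence degrees of words. -/
theorem words_le_of_normal (n : ℕ) (N : Over (Spec (CommRingCat.of k))) [GrpObj N] (i : N ⟶ G) [IsMonHom i]
    [IsClosedImmersion i.left]
    (hc : ∀ (T : Over (Spec (CommRingCat.of k))) (g h : T ⟶ G), ∃ m : T ⟶ N, g * h * g⁻¹ * h⁻¹ = m ≫ i)
    (hN : topologicalKrullDim ↥N.left ≤ (n : WithBot ℕ∞))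
    (l : List (PUnit.{1} × Bool)) (p : (src (fun _ : PUnit.{1} => G ⊗ G) l).left) :
    resTrdegAt G.hom ((word (one₁ (commMap (𝟙 G) (𝟙 G))) l).left p) ≤ (n : Cardinal.{u}) := by
  obtain ⟨m, hm⟩ := hc (G ⊗ G) (fst G G) (snd G G)
  obtain ⟨q, hq⟩ := exists_factor_word (one₁ (commMap (𝟙 G) (𝟙 G))) i
    (fun _ => ⟨m, by rw [← hm]; simp [commMap]⟩) l
  rw [← hq]
  exact resTrdegAt_le_of_dim i hN (q.left p)

end Groth.Agent.DerivDimLib

end
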